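import Groth.Agent.Lib.CI20.Results
import Groth.Agent.Lib.SerrePn27.DepthExt
import Groth.Agent.Lib.SGA2Para.CI
import Groth.Agent.Lib.BlowUp.StalkIdeal
import Mathlib.RingTheory.Regular.Flat
import Mathlib.RingTheory.Ideal.KrullsHeightTheorem

/-!
# Local rings of complete intersections in projective space at closed points
-/

set_option autoImplicit false
set_option linter.all false
set_option backward.isDefEq.respectTransparency false

universe u

open CategoryTheory CategoryTheory.Limits AlgebraicGeometry TopologicalSpace IsLocalRing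
open RingTheory.Sequence MvPolynomial

noncomputable section

namespace GrothLib.LefCI2

variable {k : Type u} [Field k] {n : ℕ}

/-- The dehomogenised equations form a weakly regular sequence. -/
theorem weaklyRegular_subst (j : Fin (n + 1)) : ∀ {r : ℕ} {a : Fin r → ℕ} (G : ∀ l, LefPen.Form n k (a l)),
    CI20.RegForms G →
      IsWeaklyRegular (MvPolynomial (Fin n) k) (List.ofFn fun l => HypSurf.subst j (G l).1) := by
  intro r
  induction r with
  | zero => intro a G _; rw [List.ofFn_zero]; exact IsWeaklyRegular.nil _ _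
  | succ r ih =>
    intro a G h
    rw [List.ofFn_succ', List.concat_eq_append, isWeaklyRegular_append_iff]
    refine ⟨ih _ h.castSucc, (isWeaklyRegular_singleton_iff _ _).2 ?_⟩
    have hI : (Ideal.ofList (List.ofFn fun l : Fin r => HypSurf.subst j (G l.castSucc).1) •
        (⊤ : Submodule (MvPolynomial (Fin n) k) (MvPolynomial (Fin n) k))) =
        Ideal.span (Set.range fun l : Fin r => HypSurf.subst j (G l.castSucc).1) := by
      rw [smul_eq_mul, Ideal.mul_top, Ideal.ofList]
      congr 1
      ext z; simp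
    rw [hI]
    intro x y hxy
    obtain ⟨x, rfl⟩ := Submodule.Quotient.mk_surjective _ x
    obtain ⟨y, rfl⟩ := Submodule.Quotient.mk_surjective _ y
    rw [Submodule.Quotient.eq]
    refine h.subst_last j ?_
    have h1 := (Submodule.Quotient.eq _).1 (by simpa only [← Submodule.Quotient.mk_smul] using hxy)
    rw [smul_eq_mul, smul_eq_mul, ← mul_sub, mul_comm] at h1
    exact h1

variable {r : ℕ} {a : Fin r → ℕ} {G : ∀ l, LefPen.Form n k (a l)}

/-- A presentation of the local ring at a closed point. -/
theorem exists_presentation (hreg : CI20.RegForms G) (y : ↥(LefPen.ciIdeal G).subscheme)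
    (hy : IsClosed ({y} : Set ↥(LefPen.ciIdeal G).subscheme)) :
    ∃ (R : Type u) (_ : CommRing R) (_ : IsRegularLocalRing R) (rs : List R)
      (π : R →+* (LefPen.ciIdeal G).subscheme.presheaf.stalk y),
      rs.length = r ∧ (∀ z ∈ rs, z ∈ maximalIdeal R) ∧ IsWeaklyRegular R rs ∧ Function.Surjective π ∧
        RingHom.ker π = Ideal.ofList rs ∧ ((n - r : ℕ) : WithBot ℕ∞) ≤
          ringKrullDim ((LefPen.ciIdeal G).subscheme.presheaf.stalk y) := by
  classical
  let I := LefPen.ciIdeal G
  let P := CohB1.ProjSpace n k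
  obtain ⟨j, hj⟩ := Opens.mem_iSup.1 ((Ample.ProjMap.iSup_basicOpen_X n k).ge (Opens.mem_top (I.subschemeι y)))
  let V : P.affineOpens := ⟨LefPen.chart n k j, HypSurf.isAffineOpen_chart j⟩
  let x := I.subschemeι y
  let R := P.presheaf.stalk x
  haveI : IsRegularLocalRing R := DualTF27.isRegular_projSpace k n x
  letI : Algebra Γ(P, V.1) R := TopCat.Presheaf.algebra_section_stalk P.presheaf (⟨x, hj⟩ : V.1)
  haveI : IsLocalization.AtPrime R (V.2.primeIdealOf ⟨x, hj⟩).asIdeal := V.2.isLocalization_stalk ⟨x, hj⟩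
  have hgerm : (P.presheaf.germ V.1 x hj).hom.Flat :=
    RingHom.flat_algebraMap_iff.2 (IsLocalization.flat R (V.2.primeIdealOf ⟨x, hj⟩).asIdeal.primeCompl)
  letI : Algebra (MvPolynomial (Fin n) k) R := ((P.presheaf.germ V.1 x hj).hom.comp (HypSurf.emb j)).toAlgebra
  haveI : Module.Flat (MvPolynomial (Fin n) k) R :=
    RingHom.flat_algebraMap_iff.1 (RingHom.Flat.comp
      (RingHom.Flat.of_bijective (HypSurf.emb_bijective j)) hgerm)
  let rs : List R := (List.ofFn fun l => HypSurf.subst j (G l).1).map (algebraMap (MvPolynomial (Fin n) k) R)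
  have hw : IsWeaklyRegular R rs := (weaklyRegular_subst j G hreg).of_flat
  have hker : RingHom.ker (I.subschemeι.stalkMap y).hom = Ideal.ofList rs := by
    rw [BlowUp.ker_stalkMap_subschemeι I y V hj, CI20.ci_ideal_eq G j V le_rfl, Ideal.map_span,
      Ideal.ofList]
    congr 1
    ext z
    simp only [← Set.range_comp, Set.mem_range, Function.comp_apply, Ample.res_self, Set.mem_setOf_eq, rs,
      List.map_ofFn, List.mem_ofFn]
    refine exists_congr fun l => ?_
    show _ ↔ (P.presheaf.germ V.1 x hj).hom (HypSurf.emb j (HypSurf.subst j (G l).1)) = z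
    rw [HypSurf.emb_subst, CurveMult.PnMap.χ_form]
    erw [Ample.res_self]
  have hm : ∀ z ∈ rs, z ∈ maximalIdeal R := fun z hz => by
    refine (IsLocalRing.mem_maximalIdeal z).2 fun hu => ?_
    have h0 : (I.subschemeι.stalkMap y).hom z = 0 := by
      rw [← RingHom.mem_ker, hker]; exact Ideal.subset_span hz
    exact not_isUnit_zero (h0 ▸ hu.map (I.subschemeι.stalkMap y).hom)
  refine ⟨R, inferInstance, inferInstance, rs, (I.subschemeι.stalkMap y).hom, by simp [rs], hm, hw,
    I.subschemeι.stalkMap_surjective y, hker, ?_⟩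
  have hx : IsClosed ({x} : Set P) := by
    have := I.subschemeι.isClosedEmbedding.isClosedMap _ hy
    rwa [Set.image_singleton] at this
  have h1 := ringKrullDim_le_ringKrullDim_quotient_add_card rs.toFinset (fun z hz => by
    rw [IsLocalRing.ringJacobson_eq_maximalIdeal]; exact hm z (by simpa using hz))
  rw [SerrePn27.dim_stalk_closedPoint x hx] at h1
  let e : R ⧸ RingHom.ker (I.subschemeι.stalkMap y).hom ≃+* I.subscheme.presheaf.stalk y :=
    RingHom.quotientKerEquivOfSurjective (I.subschemeι.stalkMap_surjective y)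
  have he : ringKrullDim (R ⧸ Ideal.span (rs.toFinset : Set R)) = ringKrullDim (I.subscheme.presheaf.stalk y) := by
    rw [← ringKrullDim_eq_of_ringEquiv e]
    refine ringKrullDim_eq_of_ringEquiv (Ideal.quotEquivOfEq ?_)
    rw [hker, Ideal.ofList]; congr 1; ext z; simp
  rw [he] at h1
  have hcard : rs.toFinset.card ≤ r := (List.toFinset_card_le rs).trans (by simp [rs])
  show ((n - r : ℕ) : WithBot ℕ∞) ≤ ringKrullDim (I.subscheme.presheaf.stalk y)
  have h0 := ringKrullDim_nonneg_of_nontrivial (R := I.subscheme.presheaf.stalk y)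
  revert h0 h1
  generalize ringKrullDim (I.subscheme.presheaf.stalk y) = D
  intro h1 h0
  induction D using WithBot.recBotCoe with
  | bot => simp at h0
  | coe d =>
    induction d using ENat.recTopCoe with
    | top => simp
    | coe d =>
      have h1' : n ≤ d + rs.toFinset.card := by exact_mod_cast h1
      have h2 : n - r ≤ d := by omega
      exact le_of_eq_of_le rfl (WithBot.coe_le_coe.2 (Nat.cast_le.2 h2) : ((n - r : ℕ) : ℕ∞) ≤ ((d : ℕ∞) : WithBot ℕ∞))

/-- Depth at a closed point. -/
theorem le_depth_stalk (hreg : CI20.RegForms G) [IsLocallyNoetherian (LefPen.ciIdeal G).subscheme]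
    (y : ↥(LefPen.ciIdeal G).subscheme) (hy : IsClosed ({y} : Set ↥(LefPen.ciIdeal G).subscheme))
    (d : ℕ) (hd : d + r ≤ n) :
    (d : ℕ∞) ≤ LocCoh.depth ((LefPen.ciIdeal G).subscheme.presheaf.stalk y)
      ((LefPen.ciIdeal G).subscheme.presheaf.stalk y) := by
  obtain ⟨R, _, _, rs, π, -, hm, hw, hπ, hker, hdim⟩ := exists_presentation hreg y hy
  exact SGA2Para.le_depth_of_ci R rs hm hw _ π hπ hker d (le_trans (by exact_mod_cast (by omega : d ≤ n - r)) hdim)

/-- A closed point of a complete intersection of dimension at least four is parafactorial. -/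
theorem isParafactorial_stalk (hreg : CI20.RegForms G) [IsLocallyNoetherian (LefPen.ciIdeal G).subscheme]
    (y : ↥(LefPen.ciIdeal G).subscheme) (hy : IsClosed ({y} : Set ↥(LefPen.ciIdeal G).subscheme))
    (hd : r + 4 ≤ n) :
    ParaF.IsParafactorialLocalRing ((LefPen.ciIdeal G).subscheme.presheaf.stalk y) := by
  obtain ⟨R, _, _, rs, π, -, hm, hw, hπ, hker, hdim⟩ := exists_presentation hreg y hy
  exact SGA2Para.isParafactorial_of_ci rs.length R rs rfl hm hw _ π hπ hker
    (le_trans (by exact_mod_cast (by omega : 4 ≤ n - r)) hdim)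

end GrothLib.LefCI2
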