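import Groth.Agent.Lib.LefCI2.Local
import Groth.Agent.Lib.CI20.Results
import Groth.Agent.S2944
import Groth.Agent.Lib.LefPic7.Bij
import Groth.Agent.Lib.LeffAmp7.Kernel
import Groth.Agent.Lib.RelVan7.Proj
import Groth.Agent.Lib.SerreCor28.Split
import Groth.Agent.Lib.Ample.Product
import Groth.Agent.Lib.ProjPic26.Main

/-!
# The Picard group of a complete intersection of dimension at least three
-/

set_option autoImplicit false
set_option linter.all false
set_option maxHeartbeats 1000000
set_option backward.isDefEq.respectTransparency false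

universe u

open CategoryTheory CategoryTheory.Limits AlgebraicGeometry TopologicalSpace

noncomputable section

namespace GrothLib.LefCI2

variable {k : Type u} [Field k] {n : ℕ}

/-- The pulled back twist. -/
abbrev tw {X : Scheme.{u}} (j : X ⟶ CohB1.ProjSpace n k) (t : ℤ) : X.Modules :=
  (Scheme.Modules.pullback j).obj (Twist.twistProjSpace n k t)

theorem isInvertible_tw {X : Scheme.{u}} (j : X ⟶ CohB1.ProjSpace n k) (t : ℤ) : PicF.IsInvertible (tw j t) :=
  Ample.isInvertible_pullback j (RelVan7.isInvertible_twist n k t)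

theorem nonempty_tw_zero {X : Scheme.{u}} (j : X ⟶ CohB1.ProjSpace n k) :
    Nonempty (tw j 0 ≅ Coh.structureModule X) := by
  obtain ⟨e⟩ := GrTilde.nonempty_structureModule_iso_twist_zero (CohB1.polyGrading n k)
  obtain ⟨e'⟩ := Ample.nonempty_pullback_structureModule j
  exact ⟨(Scheme.Modules.pullback j).mapIso e.symm ≪≫ e'⟩

theorem nonempty_tw_tensor {X : Scheme.{u}} (j : X ⟶ CohB1.ProjSpace n k) (s t w : ℤ) (h : s + t = w) :
    Nonempty (CohB1.tensorMod (tw j s) (tw j t) ≅ tw j w) := by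
  subst h
  obtain ⟨e⟩ := GrTilde.nonempty_twist_tensor_twist (𝒜 := CohB1.polyGrading n k) SerrePn27.exists_notMem' s t
  obtain ⟨e'⟩ := Ample.nonempty_pullback_tensorMod j (RelVan7.isInvertible_twist n k s)
    (RelVan7.isInvertible_twist n k t)
  exact ⟨e'.symm ≪≫ (Scheme.Modules.pullback j).mapIso e⟩

/-- Powers of a pulled back twist are pulled back twists. -/
theorem exists_tw_pow {X : Scheme.{u}} (j : X ⟶ CohB1.ProjSpace n k) {M : X.Modules} {s : ℤ} (f : M ≅ tw j s)
    (m : ℕ) : Nonempty (CohB1.tensorPow M m ≅ tw j (m * s)) := by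
  induction m with
  | zero =>
    obtain ⟨e⟩ := nonempty_tw_zero j
    exact ⟨e.symm ≪≫ eqToIso (by simp)⟩
  | succ m ih =>
    obtain ⟨e⟩ := ih
    obtain ⟨e'⟩ := nonempty_tw_tensor j ((m : ℤ) * s) s (((m + 1 : ℕ) : ℤ) * s) (by push_cast; ring)
    exact ⟨Ample.LineData.tensorModMapIso e f ≪≫ e'⟩

/-- Vanishing of the intermediate cohomology of a complete intersection. -/
theorem subsingleton_tw {r : ℕ} {a : Fin r → ℕ} (G : ∀ l, LefPen.Form n k (a l)) (ha : ∀ l, 1 ≤ a l)
    (hreg : CI20.RegForms G) (hr : r ≤ n) (t : ℤ) {p : ℕ} (hp : 0 < p) (hpn : p < n - r) :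
    Subsingleton (Coh.HH (LefPen.ciIdeal G).subscheme (tw (LefPen.ciIdeal G).subschemeι t) p) := by
  let j := (LefPen.ciIdeal G).subschemeι
  letI : (LefPen.ciIdeal G).subscheme.Over (Spec (CommRingCat.of k)) := ⟨j ≫ CohB1.ProjSpace.toSpec n k⟩
  haveI : (tw j t).IsQuasicoherent := InvExt.isQuasicoherent_of_isInvertible (isInvertible_tw j t)
  obtain ⟨e⟩ := Snapper.nonempty_HH_linearEquiv_pushforward (A := k) j rfl (tw j t) p
  obtain ⟨e3⟩ := CI20.nonempty_projection j t
  haveI := (CI20.vanishing_and_surjective r a G ha hreg hr).1 t p hp hpn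
  exact (e.trans (Euler.hhEquiv (A := k) e3 p).symm).toEquiv.subsingleton

/-- A bijection on the scheme-theoretic image gives one for the closed immersion. -/
theorem bijective_pull_of_ker {Z Y : Scheme.{u}} (c : Z ⟶ Y) [IsClosedImmersion c] {J : Y.IdealSheafData}
    (hc : c.ker = J) (h : Function.Bijective (Cube.pull J.subschemeι)) : Function.Bijective (Cube.pull c) := by
  subst hc
  have h1 := LefPic7.pull_comp_bijective c.toImage c.ker.subschemeι (LefPic7.pull_bijective_of_isIso _) h
  rwa [show c.toImage ≫ c.ker.subschemeι = c from c.toImage_imageι] at h1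

variable {m : ℕ} {a : Fin (m + 1) → ℕ} (G : ∀ l, LefPen.Form n k (a l))

/-- One hypersurface section inside a complete intersection of dimension at least four. -/
theorem bijective_pull_step (ha : ∀ l, 1 ≤ a l) (hreg : CI20.RegForms G) (hn : m + 4 ≤ n)
    (h : LefPen.ciIdeal (fun l : Fin m => G l.castSucc) ≤ LefPen.ciIdeal G) :
    Function.Bijective (Cube.pull (Scheme.IdealSheafData.inclusion h)) := by
  let I := LefPen.ciIdeal fun l : Fin m => G l.castSucc
  let X := I.subscheme
  let j : X ⟶ CohB1.ProjSpace n k := I.subschemeι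
  letI : X.Over (Spec (CommRingCat.of k)) := ⟨j ≫ CohB1.ProjSpace.toSpec n k⟩
  haveI : IsProper (CohB1.ProjSpace.toSpec n k) := Chow.isProper_toSpec n k
  haveI : IsProper (X ↘ Spec (CommRingCat.of k)) := inferInstanceAs (IsProper (j ≫ CohB1.ProjSpace.toSpec n k))
  haveI : IsNoetherian X := Euler.isNoetherian_of_proper (X := X) k
  haveI : IsClosedImmersion (Scheme.IdealSheafData.inclusion h) := by
    haveI : IsClosedImmersion (Scheme.IdealSheafData.inclusion h ≫ I.subschemeι) := by
      rw [Scheme.IdealSheafData.inclusion_subschemeι]; infer_instance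
    exact IsClosedImmersion.of_comp _ I.subschemeι
  let J : X.IdealSheafData := (LefPen.hypIdeal (G (Fin.last m))).comap j
  refine bijective_pull_of_ker _ (J := J) (CI20.ker_inclusion (CI20.ciIdeal_succ G) h) ?_
  let d := a (Fin.last m)
  have hd : 1 ≤ d := ha _
  have hregX := hreg.castSucc
  obtain ⟨eJ⟩ := CI20.nonempty_idealMod_step hreg
    (fun h0 => hreg.ne_zero ha (Fin.last m) (by rw [h0]; rfl))
  have hI : PicF.IsInvertible (ClSub.idealMod J) := RelProjK.isInvertible_of_iso eJ (isInvertible_tw j _)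
  have hL : ClSub.IsInverseOf (tw j (d : ℤ)) (ClSub.idealMod J) := by
    obtain ⟨e⟩ := nonempty_tw_tensor j (d : ℤ) (-(d : ℤ)) 0 (by simp)
    obtain ⟨z⟩ := nonempty_tw_zero j
    exact ⟨Ample.LineData.tensorModMapIso (Iso.refl _) eJ ≪≫ e ≪≫ z⟩
  have hamp : CohB1.IsAmple (tw j (d : ℤ)) := by
    haveI : CompactSpace X := QuasiCompact.compactSpace_of_compactSpace (X ↘ Spec (CommRingCat.of k))
    have h1 : CohB1.IsAmple (tw j 1) := RelProjK.isAmple_pullback_twist_of_isEmbedding
      (𝒜 := CohB1.polyGrading n k) j (Scheme.Hom.isEmbedding j) SerrePn27.exists_notMem'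
    obtain ⟨e⟩ := exists_tw_pow j (Iso.refl (tw j 1)) d
    exact (Ample.isAmple_iff_of_iso (e ≪≫ eqToIso (by rw [mul_one]))).1
      ((Ample.isAmple_tensorPow_iff (isInvertible_tw j 1) hd).1 h1)
  have hdepth : ∀ x : X, IsClosed ({x} : Set X) →
      (2 : ℕ∞) ≤ LocCoh.depth (X.presheaf.stalk x) (X.presheaf.stalk x) := fun x hx => by
    exact_mod_cast le_depth_stalk hregX x hx 2 (by omega)
  have hH : ∀ p : ℕ, 1 ≤ p → ∀ i : ℕ, (i = 1 ∨ i = 2) → Subsingleton (Coh.HH X
      ((DCoh.tensorBi.obj (CohB1.tensorPow (ClSub.idealMod J) p)).obj (ClSub.quotMod J)) i) := by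
    intro p _ i hi
    let P := CohB1.tensorPow (ClSub.idealMod J) p
    obtain ⟨eP⟩ := exists_tw_pow j eJ p
    have hPflat : FlatMod.IsFlat P := OX.flat_of_isFinLocFree
      (Euler.isFinLocFree_of_isInvertible (RelProjK.isInvertible_of_iso eP (isInvertible_tw j _)))
    have hS := OX.tensor_map_shortExact hPflat (ConnH0.shortExact_ideal J)
    have hvan : ∀ (t : ℤ) (q : ℕ), 0 < q → q ≤ 3 → Subsingleton (Coh.HH X (tw j t) q) := fun t q h1 h2 =>
      subsingleton_tw _ (fun l => ha _) hregX (by omega) t h1 (by omega)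
    obtain ⟨e₁⟩ := nonempty_tw_tensor j (-(d : ℤ)) ((p : ℤ) * -(d : ℤ)) _ rfl
    have h₁ : Subsingleton (Coh.HH X (CohB1.tensorMod (ClSub.idealMod J) P) (i + 1)) := by
      haveI := hvan (-(d : ℤ) + (p : ℤ) * -(d : ℤ)) (i + 1) (by omega) (by omega)
      exact (Euler.hhEquiv (A := k) (Ample.LineData.tensorModMapIso eJ eP ≪≫ e₁) (i + 1)).toEquiv.subsingleton
    have h₂ : Subsingleton (Coh.HH X (CohB1.tensorMod (Coh.structureModule X) P) i) := by
      haveI := hvan ((p : ℤ) * -(d : ℤ)) i (by omega) (by omega)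
      exact (Euler.hhEquiv (A := k) (OX.tensorUnitLeftIso P ≪≫ eP) i).toEquiv.subsingleton
    haveI : Subsingleton (Coh.HH X (CohB1.tensorMod (ClSub.quotMod J) P) i) :=
      CMReg.subsingleton_X₃ hS h₂ h₁
    exact (Euler.hhEquiv (A := k) (GrTilde.tensorModComm P (ClSub.quotMod J)) i).toEquiv.subsingleton
  have hY := LeffAmp7.depth_quot_of_vanish k hamp J hI hL hdepth ⟨1, fun p hp => hH p hp 1 (Or.inl rfl)⟩
  have hLeff : LefX.LeffCond X J := ⟨Groth.Agent.S2944.result k X J _ hL hamp hdepth, fun 𝔐 h𝔐 =>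
    LeffAmp7.exists_bundle_of_ample k hamp J hL hdepth hY 𝔐 h𝔐⟩
  have hpara : ∀ U : X.Opens, (J.support : Set X) ⊆ (U : Set X) → ∀ x : X, x ∉ U →
      ParaF.IsParafactorialLocalRing (X.presheaf.stalk x) := fun U hU x hx =>
    isParafactorial_stalk hregX x (LefAmp7.isClosed_of_notMem k J hL hI hamp hU hx) hn
  have hH' : ∀ p, 0 ≤ p → ∀ i : ℕ, (i = 1 ∨ i = 2) →
      Subsingleton (Coh.HH X (kernel (Lef.quotMap (Lef.pow_succ_le J p))) i) := fun p _ i hi => by
    obtain ⟨e⟩ := LeffAmp7.nonempty_kernel_quotMap J hI p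
    haveI := hH (p + 1) (Nat.succ_pos p) i hi
    exact (Euler.hhEquiv (A := k) e i).toEquiv.subsingleton
  have hb := LefPic7.bijective_pull_thickening J hLeff hpara 0 hH'
  have key : ∀ K : X.IdealSheafData, K = J →
      Function.Bijective (Cube.pull K.subschemeι) → Function.Bijective (Cube.pull J.subschemeι) := by
    rintro K rfl hK; exact hK
  exact key _ (by rw [zero_add, pow_one]) hb

/-- The Picard group of a complete intersection of dimension at least three is that of projective space. -/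
theorem bijective_pull (r : ℕ) : ∀ (a : Fin r → ℕ) (G : ∀ l, LefPen.Form n k (a l)),
    (∀ l, 1 ≤ a l) → CI20.RegForms G → r + 3 ≤ n →
      Function.Bijective (Cube.pull (LefPen.ciIdeal G).subschemeι) := by
  induction r with
  | zero =>
    intro a G _ _ _
    have hI : LefPen.ciIdeal G = ⊥ := le_bot_iff.1 (iSup_le fun l => l.elim0)
    haveI : IsIso (LefPen.ciIdeal G).subschemeι := (Scheme.isIso_subschemeι_iff_eq_bot _).2 hI
    exact LefPic7.pull_bijective_of_isIso _
  | succ m ih =>
    intro a G ha hreg hn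
    have h : LefPen.ciIdeal (fun l : Fin m => G l.castSucc) ≤ LefPen.ciIdeal G := by
      rw [CI20.ciIdeal_succ G]; exact le_sup_left
    rw [← Scheme.IdealSheafData.inclusion_subschemeι h]
    exact LefPic7.pull_comp_bijective _ _ (bijective_pull_step G ha hreg (by omega) h)
      (ih _ (fun l => G l.castSucc) (fun l => ha _) hreg.castSucc (by omega))

end GrothLib.LefCI2
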